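import Cfsg.Agent.Lib.Helper9.TCData.A6C0.Main

set_option autoImplicit false
set_option maxRecDepth 1000000

namespace Cfsg.Agent.Helper9.TCData.A6C0
open Cfsg.Agent.Helper9.TC2

theorem m2_4 : allRange 696 174 (fun u => chkFix tab mwords u) = true := by decide +kernel

theorem m2_5 : allRange 870 174 (fun u => chkFix tab mwords u) = true := by decide +kernel

theorem m2_6 : allRange 1044 174 (fun u => chkFix tab mwords u) = true := by decide +kernel

theorem m2_7 : allRange 1218 174 (fun u => chkFix tab mwords u) = true := by decide +kernel

theorem m2_8 : allRange 1392 174 (fun u => chkFix tab mwords u) = true := by decide +kernel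

theorem m2_9 : allRange 1566 174 (fun u => chkFix tab mwords u) = true := by decide +kernel

theorem m2_10 : allRange 1740 174 (fun u => chkFix tab mwords u) = true := by decide +kernel

theorem m2_11 : allRange 1914 174 (fun u => chkFix tab mwords u) = true := by decide +kernel


end Cfsg.Agent.Helper9.TCData.A6C0
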