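import Cfsg.Agent.Lib.Helper9.TCData.A6C0.S0
import Cfsg.Agent.Lib.Helper9.TCData.A6C0.S1
import Cfsg.Agent.Lib.Helper9.TCData.A6C0.S2
import Cfsg.Agent.Lib.Helper9.TCData.A6C0.S3
import Cfsg.Agent.Lib.Helper9.TCData.A6C0.S4
import Cfsg.Agent.Lib.Helper9.TCData.A6C0.S5
import Cfsg.Agent.Lib.Helper9.TCData.A6C0.S6
import Cfsg.Agent.Lib.Helper9.TCData.A6C0.S7

set_option autoImplicit false
set_option maxRecDepth 1000000

namespace Cfsg.Agent.Helper9.TCData.A6C0
open Cfsg.Agent.Helper9.TC2


theorem hE0 : ∀ u < 2447, chkE tab 0 u = true := by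
  have h0 : ∀ u < 0, (fun u => chkE tab 0 u) u = true := range_zero
  have h1 : ∀ u < 2364, (fun u => chkE tab 0 u) u = true := ext_range (a := 0) (len := 2364) h0 e0_0
  have h2 : ∀ u < 2447, (fun u => chkE tab 0 u) u = true := ext_range (a := 2364) (len := 83) h1 e0_1
  exact h2

theorem hE1 : ∀ u < 2447, chkE tab 1 u = true := by
  have h0 : ∀ u < 0, (fun u => chkE tab 1 u) u = true := range_zero
  have h1 : ∀ u < 2447, (fun u => chkE tab 1 u) u = true := ext_range (a := 0) (len := 2447) h0 e1_0
  exact h1

theorem hE2 : ∀ u < 2447, chkE tab 2 u = true := by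
  have h0 : ∀ u < 0, (fun u => chkE tab 2 u) u = true := range_zero
  have h1 : ∀ u < 1966, (fun u => chkE tab 2 u) u = true := ext_range (a := 0) (len := 1966) h0 e2_0
  have h2 : ∀ u < 2447, (fun u => chkE tab 2 u) u = true := ext_range (a := 1966) (len := 481) h1 e2_1
  exact h2

theorem hE3 : ∀ u < 2447, chkE tab 3 u = true := by
  have h0 : ∀ u < 0, (fun u => chkE tab 3 u) u = true := range_zero
  have h1 : ∀ u < 2447, (fun u => chkE tab 3 u) u = true := ext_range (a := 0) (len := 2447) h0 e3_0
  exact h1

theorem hE4 : ∀ u < 2447, chkE tab 4 u = true := by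
  have h0 : ∀ u < 0, (fun u => chkE tab 4 u) u = true := range_zero
  have h1 : ∀ u < 2009, (fun u => chkE tab 4 u) u = true := ext_range (a := 0) (len := 2009) h0 e4_0
  have h2 : ∀ u < 2447, (fun u => chkE tab 4 u) u = true := ext_range (a := 2009) (len := 438) h1 e4_1
  exact h2

theorem hE5 : ∀ u < 2447, chkE tab 5 u = true := by
  have h0 : ∀ u < 0, (fun u => chkE tab 5 u) u = true := range_zero
  have h1 : ∀ u < 2447, (fun u => chkE tab 5 u) u = true := ext_range (a := 0) (len := 2447) h0 e5_0
  exact h1

theorem hE6 : ∀ u < 2447, chkE tab 6 u = true := by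
  have h0 : ∀ u < 0, (fun u => chkE tab 6 u) u = true := range_zero
  have h1 : ∀ u < 1999, (fun u => chkE tab 6 u) u = true := ext_range (a := 0) (len := 1999) h0 e6_0
  have h2 : ∀ u < 2447, (fun u => chkE tab 6 u) u = true := ext_range (a := 1999) (len := 448) h1 e6_1
  exact h2

theorem hE7 : ∀ u < 2447, chkE tab 7 u = true := by
  have h0 : ∀ u < 0, (fun u => chkE tab 7 u) u = true := range_zero
  have h1 : ∀ u < 2447, (fun u => chkE tab 7 u) u = true := ext_range (a := 0) (len := 2447) h0 e7_0
  exact h1

theorem hE8 : ∀ u < 2447, chkE tab 8 u = true := by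
  have h0 : ∀ u < 0, (fun u => chkE tab 8 u) u = true := range_zero
  have h1 : ∀ u < 2447, (fun u => chkE tab 8 u) u = true := ext_range (a := 0) (len := 2447) h0 e8_0
  exact h1

theorem hE9 : ∀ u < 2447, chkE tab 9 u = true := by
  have h0 : ∀ u < 0, (fun u => chkE tab 9 u) u = true := range_zero
  have h1 : ∀ u < 2447, (fun u => chkE tab 9 u) u = true := ext_range (a := 0) (len := 2447) h0 e9_0
  exact h1

theorem hL : ∀ u < 2447, chkL tab u = true := by
  have h0 : ∀ u < 0, (fun u => chkL tab u) u = true := range_zero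
  have h1 : ∀ u < 2447, (fun u => chkL tab u) u = true := ext_range (a := 0) (len := 2447) h0 l_0
  exact h1

theorem hF : ∀ u < 2160, chkFin tab u = true := by
  have h0 : ∀ u < 0, (fun u => chkFin tab u) u = true := range_zero
  have h1 : ∀ u < 250, (fun u => chkFin tab u) u = true := ext_range (a := 0) (len := 250) h0 f_0
  have h2 : ∀ u < 500, (fun u => chkFin tab u) u = true := ext_range (a := 250) (len := 250) h1 f_1
  have h3 : ∀ u < 750, (fun u => chkFin tab u) u = true := ext_range (a := 500) (len := 250) h2 f_2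
  have h4 : ∀ u < 1000, (fun u => chkFin tab u) u = true := ext_range (a := 750) (len := 250) h3 f_3
  have h5 : ∀ u < 1250, (fun u => chkFin tab u) u = true := ext_range (a := 1000) (len := 250) h4 f_4
  have h6 : ∀ u < 1500, (fun u => chkFin tab u) u = true := ext_range (a := 1250) (len := 250) h5 f_5
  have h7 : ∀ u < 1750, (fun u => chkFin tab u) u = true := ext_range (a := 1500) (len := 250) h6 f_6
  have h8 : ∀ u < 2000, (fun u => chkFin tab u) u = true := ext_range (a := 1750) (len := 250) h7 f_7
  have h9 : ∀ u < 2160, (fun u => chkFin tab u) u = true := ext_range (a := 2000) (len := 160) h8 f_8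
  exact h9

theorem hC : ∀ u < 2447, chkCls tab u = true := by
  have h0 : ∀ u < 0, (fun u => chkCls tab u) u = true := range_zero
  have h1 : ∀ u < 2447, (fun u => chkCls tab u) u = true := ext_range (a := 0) (len := 2447) h0 c_0
  exact h1

theorem hM1 : ∀ u < 2160, chkM1 tab u = true := by
  have h0 : ∀ u < 0, (fun u => chkM1 tab u) u = true := range_zero
  have h1 : ∀ u < 640, (fun u => chkM1 tab u) u = true := ext_range (a := 0) (len := 640) h0 m1_0
  have h2 : ∀ u < 1280, (fun u => chkM1 tab u) u = true := ext_range (a := 640) (len := 640) h1 m1_1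
  have h3 : ∀ u < 1920, (fun u => chkM1 tab u) u = true := ext_range (a := 1280) (len := 640) h2 m1_2
  have h4 : ∀ u < 2160, (fun u => chkM1 tab u) u = true := ext_range (a := 1920) (len := 240) h3 m1_3
  exact h4

theorem hM2 : ∀ u < 2160, chkFix tab mwords u = true := by
  have h0 : ∀ u < 0, (fun u => chkFix tab mwords u) u = true := range_zero
  have h1 : ∀ u < 174, (fun u => chkFix tab mwords u) u = true := ext_range (a := 0) (len := 174) h0 m2_0
  have h2 : ∀ u < 348, (fun u => chkFix tab mwords u) u = true := ext_range (a := 174) (len := 174) h1 m2_1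
  have h3 : ∀ u < 522, (fun u => chkFix tab mwords u) u = true := ext_range (a := 348) (len := 174) h2 m2_2
  have h4 : ∀ u < 696, (fun u => chkFix tab mwords u) u = true := ext_range (a := 522) (len := 174) h3 m2_3
  have h5 : ∀ u < 870, (fun u => chkFix tab mwords u) u = true := ext_range (a := 696) (len := 174) h4 m2_4
  have h6 : ∀ u < 1044, (fun u => chkFix tab mwords u) u = true := ext_range (a := 870) (len := 174) h5 m2_5
  have h7 : ∀ u < 1218, (fun u => chkFix tab mwords u) u = true := ext_range (a := 1044) (len := 174) h6 m2_6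
  have h8 : ∀ u < 1392, (fun u => chkFix tab mwords u) u = true := ext_range (a := 1218) (len := 174) h7 m2_7
  have h9 : ∀ u < 1566, (fun u => chkFix tab mwords u) u = true := ext_range (a := 1392) (len := 174) h8 m2_8
  have h10 : ∀ u < 1740, (fun u => chkFix tab mwords u) u = true := ext_range (a := 1566) (len := 174) h9 m2_9
  have h11 : ∀ u < 1914, (fun u => chkFix tab mwords u) u = true := ext_range (a := 1740) (len := 174) h10 m2_10
  have h12 : ∀ u < 2088, (fun u => chkFix tab mwords u) u = true := ext_range (a := 1914) (len := 174) h11 m2_11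
  have h13 : ∀ u < 2160, (fun u => chkFix tab mwords u) u = true := ext_range (a := 2088) (len := 72) h12 m2_12
  exact h13

theorem hE : ∀ c < 10, ∀ u < 2447, chkE tab c u = true := by
  intro c hc
  interval_cases c
  · exact hE0
  · exact hE1
  · exact hE2
  · exact hE3
  · exact hE4
  · exact hE5
  · exact hE6
  · exact hE7
  · exact hE8
  · exact hE9

end Cfsg.Agent.Helper9.TCData.A6C0
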