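import Cfsg.Agent.Lib.Helper9.TC2Cox
import Cfsg.Agent.Lib.Helper9.TC2Aux
import Cfsg.Agent.Lib.Helper9.TC2BSGS
import Cfsg.Agent.Lib.Helper9.TC2Pack
import Cfsg.Agent.Lib.Helper9.TCData.A6C0.P0

set_option autoImplicit false
set_option maxRecDepth 100000

namespace Cfsg.Agent.Helper9.TCData.A6C0
open Cfsg.Agent.Helper9.TC2
/-- The rotated relators. -/
noncomputable def rotT : WT := (WT.node 26 (WT.node 13 (WT.node 6 (WT.node 3 (WT.node 1 (WT.leaf [0, 0, 0]) (WT.node 2 (WT.leaf [0, 9, 1, 8]) (WT.leaf [0, 6, 0, 6, 9]))) (WT.node 4 (WT.leaf [0, 4, 9, 9, 9, 0, 4]) (WT.node 5 (WT.leaf [0, 6, 9, 0, 6]) (WT.leaf [0, 4, 0, 4, 9, 9, 9])))) (WT.node 9 (WT.node 7 (WT.leaf [0, 2, 0, 2, 0, 2]) (WT.node 8 (WT.leaf [1, 8, 0, 9]) (WT.leaf [2, 9, 3, 8]))) (WT.node 11 (WT.node 10 (WT.leaf [2, 9, 9, 9, 2]) (WT.leaf [2, 0, 2,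 0, 2, 0])) (WT.node 12 (WT.leaf [2, 6, 9, 9, 9, 2, 6]) (WT.leaf [2, 2, 9, 9, 9]))))) (WT.node 19 (WT.node 16 (WT.node 14 (WT.leaf [2, 6, 2, 6, 9, 9, 9]) (WT.node 15 (WT.leaf [2, 4, 2, 4, 2, 4]) (WT.leaf [3, 8, 2, 9]))) (WT.node 17 (WT.leaf [4, 9, 5, 8]) (WT.node 18 (WT.leaf [4, 0, 4, 9, 9, 9, 0]) (WT.leaf [4, 9, 9, 9, 4])))) (WT.node 22 (WT.node 20 (WT.leaf [4, 2, 4, 2, 4, 2]) (WT.node 21 (WT.leaf [4, 4, 9, 9, 9]) (WT.leaf [4, 6, 4, 6, 4, 6]))) (WT.node 24 (WT.node 23 (WT.leaf [5, 8, 4, 9]) (WT.leaf [6, 9, 7, 8])) (WT.node 25 (WT.leaf [6, 0, 6, 9, 0]) (WT.leaf [6, 9, 0, 6, 0])))))) (WT.node 39 (WT.node 32 (WT.node 29 (WT.node 27 (WT.leaf [6, 9, 9, 9, 2, 6, 2]) (WT.node 28 (WT.leaf [6, 6, 9, 9, 9]) (WT.leaf [6, 9, 9, 9, 6]))) (WT.node 30 (WT.leaf [6, 4, 6, 4, 6, 4]) (WT.node 31 (WT.leaf [6, 2, 6, 9, 9, 9, 2])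 (WT.leaf [7, 8, 6, 9])))) (WT.node 35 (WT.node 33 (WT.leaf [8, 8, 8, 8, 8, 8]) (WT.node 34 (WT.leaf [8, 0, 9, 1]) (WT.leaf [8, 6, 9, 7]))) (WT.node 37 (WT.node 36 (WT.leaf [8, 2, 9, 3]) (WT.leaf [8, 4, 9, 5])) (WT.node 38 (WT.leaf [9, 1, 8, 0]) (WT.leaf [9, 2, 2, 9, 9]))))) (WT.node 46 (WT.node 42 (WT.node 40 (WT.leaf [9, 9, 2, 2, 9]) (WT.node 41 (WT.leaf [9, 9, 4, 4, 9]) (WT.leaf [9, 0, 6, 0, 6]))) (WT.node 44 (WT.node 43 (WT.leaf [9, 9, 6, 6, 9]) (WT.leaf [9, 3, 8, 2])) (WT.node 45 (WT.leaf [9, 5, 8, 4]) (WT.leaf [9, 6, 6, 9, 9])))) (WT.node 49 (WT.node 47 (WT.leaf [9, 9, 9, 2, 2]) (WT.node 48 (WT.leaf [9, 9, 9, 4, 4]) (WT.leaf [9, 9, 0, 4, 0, 4, 9]))) (WT.node 51 (WT.node 50 (WT.leaf [9, 9, 9, 6, 6]) (WT.leaf [9, 7, 8, 6])) (WT.node 52 (WT.leaf [9, 4, 4, 9, 9]) (WT.leaf [9, 0, 4, 0, 4, 9, 9])))))))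

/-- The sources of the rotated relators: relator and rotation. -/
def rotSrc : List (ℕ × ℕ) := [(0, 1), (11, 1), (8, 0), (7, 2), (8, 2), (7, 0), (4, 2), (11, 3), (12, 1), (1, 1), (4, 1), (9, 2), (1, 0), (9, 0), (5, 2), (12, 3), (13, 1), (7, 1), (2, 1), (5, 1), (2, 0), (6, 2), (13, 3), (14, 1), (8, 1), (8, 3), (9, 3), (3, 0), (3, 1), (6, 1), (9, 1), (14, 3), (10, 5), (11, 0), (14, 0), (12, 0), (13, 0), (11, 2), (1, 4), (1, 3), (2, 3), (8, 4), (3, 3), (12, 2), (13, 2), (3, 4), (1, 2), (2, 2), (7, 5), (3, 2), (14, 2), (2, 4), (7, 6)]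

/-- The relators, as words of columns. -/
def relWords : List (List ℕ) := [[0, 0, 0], [2, 2, 9, 9, 9], [4, 4, 9, 9, 9], [6, 6, 9, 9, 9], [0, 2, 0, 2, 0, 2], [2, 4, 2, 4, 2, 4], [4, 6, 4, 6, 4, 6], [0, 4, 0, 4, 9, 9, 9], [0, 6, 0, 6, 9], [2, 6, 2, 6, 9, 9, 9], [8, 8, 8, 8, 8, 8], [8, 0, 9, 1], [8, 2, 9, 3], [8, 4, 9, 5], [8, 6, 9, 7]]

/-- The words checked on the permutation model. -/
def mwords : List (List ℕ) := [[0, 0, 0], [2, 2, 9, 9, 9], [4, 4, 9, 9, 9], [6, 6, 9, 9, 9], [0, 2, 0, 2, 0, 2], [2, 4, 2, 4, 2, 4], [4, 6, 4, 6, 4, 6], [0, 4, 0, 4, 9, 9, 9], [0, 6, 0, 6, 9], [2, 6, 2, 6, 9, 9, 9], [8, 8, 8, 8, 8, 8], [8, 0, 9, 1], [8, 2, 9, 3], [8, 4, 9, 5], [8, 6, 9, 7]]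

/-- The table. -/
noncomputable def tab : Tab where
  k := 10
  inv := fun c => (bif Nat.beq c 0 then 1 else (bif Nat.beq c 1 then 0 else (bif Nat.beq c 2 then 3 else (bif Nat.beq c 3 then 2 else (bif Nat.beq c 4 then 5 else (bif Nat.beq c 5 then 4 else (bif Nat.beq c 6 then 7 else (bif Nat.beq c 7 then 6 else (bif Nat.beq c 8 then 9 else (bif Nat.beq c 9 then 8 else c))))))))))
  N := 2447
  n := 2160
  Tmax := 22326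
  wn := 12
  mn := 0xfff
  subs := []
  rot := fun i => rotT.getF i
  ent := fun c i => bget2 entT_0 3 9 27 0x7ffffff 511 c i
  cer := fun c i => bget2 cerT_0 2 10 15 0x7fff 1023 c i
  tau := fun c i => bget2 tauT_0 2 10 12 0xfff 1023 c i
  lk := fun i => bget lkT_0 9 27 0x7ffffff 511 i
  lc := fun i => bget lcT_0 9 27 0x7ffffff 511 i
  pn := fun i => bget pnT_0 10 16 0xffff 1023 i
  cls := fun i => bget clsT_0 10 12 0xfff 1023 i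
  rep := fun i => bget repT_0 10 12 0xfff 1023 i

end Cfsg.Agent.Helper9.TCData.A6C0
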